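import Groth.Agent.Lib.Segre.Basic
import Groth.Agent.Lib.ProjSpace.Basic
import Groth.Agent.Lib.QAffImm12.Basic
import Mathlib.AlgebraicGeometry.AffineSpace

/-!
# Products of projective spaces over a base, and embeddings of affine schemes
-/

universe u

open CategoryTheory Limits AlgebraicGeometry TopologicalSpace

set_option backward.isDefEq.respectTransparency false
set_option backward.isDefEq.respectTransparency.types false
set_option linter.style.haveILetI false

noncomputable section

namespace Groth.Agent.Chow13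

variable (S : Scheme.{u})

/-- The Segre embedding over any base. -/
theorem exists_segreOver (n m : ℕ) : ∃ (N : ℕ)
    (φ : pullback (CohB1.ProjSpaceOver.toBase n S) (CohB1.ProjSpaceOver.toBase m S) ⟶ CohB1.ProjSpaceOver N S),
    IsClosedImmersion φ ∧
      φ ≫ CohB1.ProjSpaceOver.toBase N S = pullback.fst _ _ ≫ CohB1.ProjSpaceOver.toBase n S := by
  let N := n * m + n + m
  obtain ⟨φ, hφ, hb⟩ := Segre.exists_segre (ULift.{u} ℤ) (n := n) (m := m) (N := N)
    ((finCongr (show N + 1 = (n + 1) * (m + 1) by ring)).trans finProdFinEquiv.symm)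
  let pn : CohB1.ProjSpaceOver n S ⟶ CohB1.ProjSpace n (ULift.{u} ℤ) := pullback.fst _ _
  let pm : CohB1.ProjSpaceOver m S ⟶ CohB1.ProjSpace m (ULift.{u} ℤ) := pullback.fst _ _
  let bn := CohB1.ProjSpaceOver.toBase n S
  let bm := CohB1.ProjSpaceOver.toBase m S
  let h₀ := pullback.lift (f := CohB1.ProjSpace.toSpec n (ULift.{u} ℤ)) (g := CohB1.ProjSpace.toSpec m (ULift.{u} ℤ))
    (pullback.fst bn bm ≫ pn) (pullback.snd bn bm ≫ pm) (specULiftZIsTerminal.hom_ext _ _)
  let ψ : pullback bn bm ⟶ CohB1.ProjSpaceOver N S :=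
    pullback.lift (h₀ ≫ φ) (pullback.fst bn bm ≫ bn) (specULiftZIsTerminal.hom_ext _ _)
  have hψ : ψ ≫ CohB1.ProjSpaceOver.toBase N S = pullback.fst bn bm ≫ bn := pullback.lift_snd _ _ _
  refine ⟨N, ψ, ?_, hψ⟩
  haveI : IsProper (ψ ≫ CohB1.ProjSpaceOver.toBase N S) := by
    rw [hψ]
    haveI : IsProper (pullback.fst bn bm) := MorphismProperty.pullback_fst _ _ inferInstance
    infer_instance
  haveI : IsProper ψ := IsProper.of_comp ψ (CohB1.ProjSpaceOver.toBase N S)
  haveI : Mono ψ := ⟨fun {T} a b hab => by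
    have h1 : a ≫ h₀ = b ≫ h₀ := by
      rw [← cancel_mono φ, Category.assoc, Category.assoc]
      simpa [ψ] using congrArg (· ≫ pullback.fst _ _) hab
    have h2 : a ≫ pullback.fst bn bm ≫ bn = b ≫ pullback.fst bn bm ≫ bn := by
      rw [← hψ, ← Category.assoc, hab, Category.assoc]
    have h3 : a ≫ pullback.fst bn bm ≫ pn = b ≫ pullback.fst bn bm ≫ pn := by
      simpa [h₀] using congrArg (· ≫ pullback.fst _ _) h1
    have h4 : a ≫ pullback.snd bn bm ≫ pm = b ≫ pullback.snd bn bm ≫ pm := by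
      simpa [h₀] using congrArg (· ≫ pullback.snd _ _) h1
    have h5 : a ≫ pullback.snd bn bm ≫ bm = b ≫ pullback.snd bn bm ≫ bm := by
      rwa [← pullback.condition]
    apply pullback.hom_ext
    · apply pullback.hom_ext
      · simpa [Category.assoc] using h3
      · exact (Category.assoc _ _ _).trans (h2.trans (Category.assoc _ _ _).symm)
    · apply pullback.hom_ext
      · simpa [Category.assoc] using h4
      · exact (Category.assoc _ _ _).trans (h5.trans (Category.assoc _ _ _).symm)⟩
  exact (IsClosedImmersion.iff_isProper_and_mono ψ).mpr ⟨inferInstance, inferInstance⟩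

/-- A finite product of projective spaces over `S`, embedded in one projective space. -/
theorem exists_prod (k : ℕ) (n : Fin k → ℕ) :
    ∃ (N : ℕ) (P : Scheme.{u}) (p : P ⟶ S) (e : P ⟶ CohB1.ProjSpaceOver N S)
      (pr : ∀ i, P ⟶ CohB1.ProjSpaceOver (n i) S),
      IsClosedImmersion e ∧ e ≫ CohB1.ProjSpaceOver.toBase N S = p ∧
      (∀ i, pr i ≫ CohB1.ProjSpaceOver.toBase (n i) S = p) ∧
      ∀ {T : Scheme.{u}} (t : T ⟶ S) (g : ∀ i, T ⟶ CohB1.ProjSpaceOver (n i) S),
        (∀ i, g i ≫ CohB1.ProjSpaceOver.toBase (n i) S = t) →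
          ∃ h : T ⟶ P, h ≫ p = t ∧ ∀ i, h ≫ pr i = g i := by
  induction k with
  | zero =>
    let φ : (CohB1.ProjSpace 0 (ULift.{u} ℤ)) ⟶ _ := CohB1.ProjSpace.toSpec 0 (ULift.{u} ℤ)
    let s := (ProjSpace.chart 0 (ULift.{u} ℤ) 0)
    let t : Spec (CommRingCat.of (ULift.{u} ℤ)) ⟶ Spec (CommRingCat.of (MvPolynomial {j : Fin 1 // j ≠ 0} (ULift.{u} ℤ))) :=
      Spec.map (CommRingCat.ofHom (MvPolynomial.eval₂Hom (RingHom.id _) fun _ => 0))
    let i : S ⟶ CohB1.ProjSpaceOver 0 S :=
      pullback.lift (specULiftZIsTerminal.from S ≫ t ≫ s) (𝟙 S) (specULiftZIsTerminal.hom_ext _ _)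
    have hi : i ≫ CohB1.ProjSpaceOver.toBase 0 S = 𝟙 S := pullback.lift_snd _ _ _
    haveI : IsClosedImmersion (i ≫ CohB1.ProjSpaceOver.toBase 0 S) := by rw [hi]; infer_instance
    exact ⟨0, S, 𝟙 S, i, fun j => j.elim0, IsClosedImmersion.of_comp i (CohB1.ProjSpaceOver.toBase 0 S), hi, fun j => j.elim0,
      fun t _ _ => ⟨t, Category.comp_id t, fun j => j.elim0⟩⟩
  | succ k ih =>
    obtain ⟨N, P, p, e, pr, he, hep, hpr, huniv⟩ := ih (fun i => n i.castSucc)
    obtain ⟨M, σ, hσ, hσb⟩ := exists_segreOver S N (n (Fin.last k))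
    let b := CohB1.ProjSpaceOver.toBase (n (Fin.last k)) S
    let m := pullback.map p b (CohB1.ProjSpaceOver.toBase N S) b e (𝟙 _) (𝟙 _)
      (by simp [hep]) (by simp)
    haveI : IsClosedImmersion m := by
      haveI : IsProper (m ≫ pullback.fst _ _ ≫ CohB1.ProjSpaceOver.toBase N S) := by
        simp only [m, pullback.lift_fst_assoc, Category.assoc, hep]
        haveI : IsProper p := by rw [← hep]; infer_instance
        haveI : IsProper (pullback.fst p b) := MorphismProperty.pullback_fst _ _ inferInstance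
        infer_instance
      haveI : IsSeparated (pullback.fst (CohB1.ProjSpaceOver.toBase N S) b ≫ CohB1.ProjSpaceOver.toBase N S) := by
        haveI : IsSeparated (pullback.fst (CohB1.ProjSpaceOver.toBase N S) b) :=
          MorphismProperty.pullback_fst _ _ inferInstance
        infer_instance
      haveI : IsProper m := IsProper.of_comp m (pullback.fst _ _ ≫ CohB1.ProjSpaceOver.toBase N S)
      haveI : Mono m := ⟨fun {T} x y hxy => pullback.hom_ext
        (by rw [← cancel_mono e]; simpa [m] using congrArg (· ≫ pullback.fst _ _) hxy)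
        (by simpa [m] using congrArg (· ≫ pullback.snd _ _) hxy)⟩
      exact (IsClosedImmersion.iff_isProper_and_mono m).mpr ⟨inferInstance, inferInstance⟩
    refine ⟨M, pullback p b, pullback.fst p b ≫ p, m ≫ σ,
      fun i => Fin.lastCases (motive := fun i => pullback p b ⟶ CohB1.ProjSpaceOver (n i) S)
        (pullback.snd p b) (fun i => pullback.fst p b ≫ pr i) i, inferInstance, ?_, ?_, ?_⟩
    · rw [Category.assoc, hσb]
      exact (pullback.lift_fst_assoc _ _ _ _).trans ((Category.assoc _ _ _).trans (congrArg _ hep))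
    · intro i
      induction i using Fin.lastCases with
      | last => simpa using pullback.condition.symm
      | cast i => simp [hpr]
    · intro T t g hg
      obtain ⟨h, hh, hhi⟩ := huniv t (fun i => g i.castSucc) fun i => hg _
      refine ⟨pullback.lift h (g (Fin.last k)) (hh.trans (hg _).symm), by simp [hh], fun i => ?_⟩
      induction i using Fin.lastCases with
      | last => simp
      | cast i => simp [hhi]

/-- Affine space embeds in projective space over any base. -/
theorem exists_affineSpace_immersion (n : ℕ) :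
    ∃ j : 𝔸(ULift.{u} (Fin n); S) ⟶ CohB1.ProjSpaceOver n S,
      IsOpenImmersion j ∧ j ≫ CohB1.ProjSpaceOver.toBase n S = 𝔸(ULift.{u} (Fin n); S) ↘ S := by
  let e : ULift.{u} (Fin n) ≃ {j : Fin (n + 1) // j ≠ 0} := Equiv.ulift.trans (finSuccAboveEquiv 0)
  let ρ := (MvPolynomial.renameEquiv (ULift.{u} ℤ) e).toRingEquiv.toCommRingCatIso
  let c : Spec (CommRingCat.of (MvPolynomial (ULift.{u} (Fin n)) (ULift.{u} ℤ))) ⟶ CohB1.ProjSpace n (ULift.{u} ℤ) :=
    Spec.map ρ.inv ≫ ProjSpace.chart n (ULift.{u} ℤ) 0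
  haveI : IsOpenImmersion c := by
    haveI : IsIso (Spec.map ρ.inv) := inferInstance
    infer_instance
  let τ : ⊤_ Scheme.{u} ⟶ Spec (CommRingCat.of (ULift.{u} ℤ)) := specULiftZIsTerminal.from _
  haveI : Mono τ := ⟨fun _ _ _ => terminalIsTerminal.hom_ext _ _⟩
  let m := pullback.map (terminal.from S) (terminal.from (Spec (CommRingCat.of (MvPolynomial (ULift.{u} (Fin n)) (ULift.{u} ℤ)))))
    (specULiftZIsTerminal.from S) (CohB1.ProjSpace.toSpec n (ULift.{u} ℤ)) (𝟙 S) c τ
    (specULiftZIsTerminal.hom_ext _ _) (specULiftZIsTerminal.hom_ext _ _)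
  refine ⟨m ≫ (pullbackSymmetry _ _).hom, inferInstanceAs (IsOpenImmersion (m ≫ _)), ?_⟩
  unfold CohB1.ProjSpaceOver.toBase
  rw [Category.assoc, pullbackSymmetry_hom_comp_snd, pullback.lift_fst, Category.comp_id]
  rfl

/-- Quasi-affine schemes locally of finite type embed in projective space over any base. -/
theorem exists_immersion_projSpace {U : Scheme.{u}} (π : U ⟶ S) [LocallyOfFiniteType π] [U.IsQuasiAffine] :
    ∃ (n : ℕ) (j : U ⟶ CohB1.ProjSpaceOver n S), IsImmersion j ∧ j ≫ CohB1.ProjSpaceOver.toBase n S = π := by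
  obtain ⟨n, i, hi, hiπ⟩ := QAffImm12.exists_immersion_affineSpace π
  obtain ⟨j, hj, hjb⟩ := exists_affineSpace_immersion S n
  exact ⟨n, i ≫ j, inferInstance, by rw [Category.assoc, hjb, hiπ]⟩

end Groth.Agent.Chow13
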