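import Groth.Agent.Lib.Chow13.Image
import Groth.Agent.Lib.Chow13.ProjProd
import Mathlib.AlgebraicGeometry.Limits
import Mathlib.Topology.Sober

/-!
# Chow's lemma for finitely many irreducible components
-/

universe u

open CategoryTheory Limits AlgebraicGeometry TopologicalSpace

set_option backward.isDefEq.respectTransparency false
set_option backward.isDefEq.respectTransparency.types false
set_option linter.style.haveILetI false

noncomputable section

namespace Groth.Agent.Chow13

/-- A finite disjoint union of affine opens is affine. -/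
theorem isAffineOpen_iSup_of_disjoint {X : Scheme.{u}} {σ : Type} [Finite σ] (O : σ → X.Opens)
    (hO : ∀ i, IsAffineOpen (O i)) (hd : Pairwise fun i j => Disjoint (O i) (O j)) : IsAffineOpen (⨆ i, O i) := by
  haveI : ∀ i, IsAffine (O i : Scheme.{u}) := hO
  let f : ∀ i, (O i : Scheme.{u}) ⟶ (⨆ i, O i : X.Opens) := fun i => X.homOfLE (le_iSup O i)
  have hr : ∀ i, ∀ x, x ∈ (f i).opensRange ↔ x.1 ∈ O i := fun i x => by
    constructor
    · rintro ⟨y, rfl⟩
      simpa [f] using y.2
    · intro hx
      exact ⟨⟨x.1, hx⟩, Subtype.ext (by simp [f])⟩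
  obtain ⟨hc⟩ := nonempty_isColimit_cofanMk_of f
    (top_le_iff.1 fun x _ => by
      obtain ⟨i, hi⟩ := Opens.mem_iSup.1 x.2
      exact Opens.mem_iSup.2 ⟨i, (hr i x).2 hi⟩)
    (fun i j hij => by
      change Disjoint _ _
      rw [disjoint_iff]
      ext x
      simp only [Opens.coe_inf, Set.mem_inter_iff, SetLike.mem_coe, hr, Opens.coe_bot,
        Set.mem_empty_iff_false, iff_false, not_and]
      exact fun h1 h2 => (hd hij).le_bot (show x.1 ∈ O i ⊓ O j from ⟨h1, h2⟩))
  haveI : IsAffine (colimit.cocone (Discrete.functor fun i => (O i : Scheme.{u}))).pt :=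
    inferInstanceAs (IsAffine (∐ fun i => (O i : Scheme.{u})))
  exact IsAffine.of_isIso ((colimit.isColimit _).coconePointUniqueUpToIso hc).inv

/-- With finitely many irreducible components, every point has a dense affine neighbourhood. -/
theorem exists_dense_affineOpen {X : Scheme.{u}} (hirr : (irreducibleComponents (X : Type u)).Finite) (x : X) :
    ∃ U : X.Opens, IsAffineOpen U ∧ x ∈ U ∧ genericPoints (X : Type u) ⊆ U := by
  classical
  obtain ⟨V, hV, hxV, -⟩ := exists_isAffineOpen_mem_and_subset (x := x) (U := (⊤ : X.Opens)) trivial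
  have hG := genericPoints.finite hirr
  have hW : ∀ g : genericPoints (X : Type u), ∃ W : X.Opens, IsAffineOpen W ∧ g.1 ∈ W ∧
      ∀ y ∈ W, ∀ g' : genericPoints (X : Type u), g'.1 ⤳ y → g' = g := by
    intro g
    haveI := hG.to_subtype
    let C : Set X := ⋃ g' : {g' : genericPoints (X : Type u) // g' ≠ g}, closure {g'.1.1}
    have hC : IsClosed C := isClosed_iUnion_of_finite fun _ => isClosed_closure
    have hg : g.1 ∉ C := fun h => by
      obtain ⟨g', hg'⟩ := Set.mem_iUnion.1 h
      have h1 : closure {g.1} ⊆ closure {g'.1.1} := closure_minimal (by simpa using hg') isClosed_closure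
      have h2 : closure {g.1} = closure {g'.1.1} :=
        h1.antisymm (g.2.2 isIrreducible_singleton.closure h1)
      exact g'.2 (genericPoints.component_injective (Subtype.ext h2.symm))
    obtain ⟨W, hW, hgW, hWC⟩ := exists_isAffineOpen_mem_and_subset (x := g.1)
      (U := (⟨Cᶜ, hC.isOpen_compl⟩ : X.Opens)) hg
    exact ⟨W, hW, hgW, fun y hy g' hg' => by_contra fun hne =>
      hWC hy (Set.mem_iUnion.2 ⟨⟨g', hne⟩, hg'.mem_closure⟩)⟩
  choose W hWa hgW hWu using hW
  haveI := hG.to_subtype
  obtain ⟨k, ⟨e⟩⟩ := Finite.exists_equiv_fin {g : genericPoints (X : Type u) // g.1 ∉ V}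
  let O : Option (Fin k) → X.Opens := fun o => o.elim V fun i => W (e.symm i).1
  have hVW : ∀ g : {g : genericPoints (X : Type u) // g.1 ∉ V}, Disjoint V (W g.1) := fun g => by
    rw [disjoint_iff]
    ext y
    simp only [Opens.coe_inf, Set.mem_inter_iff, SetLike.mem_coe, Opens.coe_bot, Set.mem_empty_iff_false,
      iff_false, not_and]
    intro hyV hyW
    let Z := irreducibleComponent y
    let g₀ := genericPoints.ofComponent (⟨Z, irreducibleComponent_mem_irreducibleComponents y⟩ : irreducibleComponents (X : Type u))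
    have hs : g₀.1 ⤳ y :=
      (genericPoints.isGenericPoint_ofComponent _).specializes mem_irreducibleComponent
    have h1 := hWu g.1 y hyW g₀ hs
    exact g.2 (h1 ▸ hs.mem_open V.2 hyV)
  have hd : Pairwise fun i j => Disjoint (O i) (O j) := by
    intro i j hij
    rcases i with _ | i <;> rcases j with _ | j
    · exact absurd rfl hij
    · exact hVW _
    · exact (hVW _).symm
    · rw [disjoint_iff]
      ext y
      simp only [O, Option.elim_some, Opens.coe_inf, Set.mem_inter_iff, SetLike.mem_coe, Opens.coe_bot,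
        Set.mem_empty_iff_false, iff_false, not_and]
      intro hyi hyj
      let g₀ := genericPoints.ofComponent (⟨irreducibleComponent y, irreducibleComponent_mem_irreducibleComponents y⟩ : irreducibleComponents (X : Type u))
      have hs : g₀.1 ⤳ y :=
        (genericPoints.isGenericPoint_ofComponent _).specializes mem_irreducibleComponent
      refine hij (congrArg some (e.symm.injective (Subtype.ext ?_)))
      exact (hWu _ y hyi g₀ hs).symm.trans (hWu _ y hyj g₀ hs)
  refine ⟨⨆ o, O o, isAffineOpen_iSup_of_disjoint O (fun o => ?_) hd, Opens.mem_iSup.2 ⟨none, hxV⟩, fun g hg => ?_⟩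
  · rcases o with _ | i
    · exact hV
    · exact hWa _
  · by_cases h : g ∈ V
    · exact Opens.mem_iSup.2 ⟨none, h⟩
    · refine Opens.mem_iSup.2 ⟨some (e ⟨⟨g, hg⟩, h⟩), ?_⟩
      simp only [O, Option.elim_some, Equiv.symm_apply_apply]
      exact hgW ⟨g, hg⟩

/-- Chow's lemma for a cover by quasi-affine opens with dense intersection. -/
theorem chow_of_cover {X S : Scheme.{u}} (f : X ⟶ S) [QuasiSeparatedSpace S] [IsSeparated f]
    [LocallyOfFiniteType f] {k : ℕ} (O : Fin k → X.Opens) (hOa : ∀ i, IsAffineOpen (O i))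
    (hO : ∀ x, ∃ i, x ∈ O i) (U : X.Opens) (hU : IsCompact (U : Set X)) (hUO : ∀ i, U ≤ O i)
    (hdense : Dense (U : Set X)) :
    ∃ (n : ℕ) (X' : Scheme.{u}) (π : X' ⟶ X) (j : X' ⟶ CohB1.ProjSpaceOver n S),
      IsImmersion j ∧ j ≫ CohB1.ProjSpaceOver.toBase n S = π ≫ f ∧ IsProper π ∧ Surjective π ∧
      IsIso (π ∣_ U) := by
  haveI : ∀ i, IsAffine (O i : Scheme.{u}) := hOa
  choose n j hji hj using fun i => exists_immersion_projSpace S ((O i).ι ≫ f)
  obtain ⟨N, P, p, e, pr, he, hep, hpr, huniv⟩ := exists_prod S k n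
  haveI : IsProper p := by rw [← hep]; infer_instance
  obtain ⟨g, hg, hgj⟩ := huniv (U.ι ≫ f) (fun i => X.homOfLE (hUO i) ≫ j i)
    fun i => by simp [hj]
  haveI : QuasiSeparatedSpace X := quasiSeparatedSpace_of_quasiSeparated f
  haveI : CompactSpace (U : Scheme.{u}) := isCompact_iff_compactSpace.1 hU
  haveI : IsSeparated (pullback.fst f p) := MorphismProperty.pullback_fst _ _ inferInstance
  haveI : QuasiCompact (graphU U g hg ≫ pullback.fst f p) := by
    rw [graphU, pullback.lift_fst]
    infer_instance
  haveI : QuasiCompact (graphU U g hg) := QuasiCompact.of_comp (graphU U g hg) (pullback.fst f p)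
  haveI := isImmersion_chowq U g hg O hO hUO (fun i => CohB1.ProjSpaceOver (n i) S)
    (fun i => CohB1.ProjSpaceOver.toBase (n i) S) pr hpr j hj hgj
  exact ⟨N, _, chowπ U g hg, chowq U g hg ≫ e, inferInstance,
    by rw [Category.assoc, hep, chowq_comp], isProper_chowπ U g hg, surjective_chowπ U g hg hdense,
    isIso_chowπ_restrict U g hg⟩

/-- Chow's lemma for schemes with finitely many irreducible components. -/
theorem chow_finite_components {X S : Scheme.{u}} (f : X ⟶ S) [CompactSpace S] [QuasiSeparatedSpace S]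
    [IsSeparated f] [LocallyOfFiniteType f] [QuasiCompact f]
    (hirr : (irreducibleComponents (X : Type u)).Finite) :
    ∃ (n : ℕ) (X' : Scheme.{u}) (π : X' ⟶ X) (j : X' ⟶ CohB1.ProjSpaceOver n S),
      IsImmersion j ∧ j ≫ CohB1.ProjSpaceOver.toBase n S = π ≫ f ∧ IsProper π ∧ Surjective π ∧
      ∃ U : X.Opens, Dense (U : Set X) ∧ IsIso (π ∣_ U) := by
  classical
  haveI : CompactSpace X := QuasiCompact.compactSpace_of_compactSpace f
  haveI : QuasiSeparatedSpace X := quasiSeparatedSpace_of_quasiSeparated f
  choose V hV hxV hGV using exists_dense_affineOpen hirr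
  obtain ⟨s, hs⟩ := (isCompact_univ (X := X)).elim_finite_subcover (fun x => (V x : Set X))
    (fun x => (V x).2) (fun x _ => Set.mem_iUnion.mpr ⟨x, hxV x⟩)
  let k := Fintype.card s
  let O : Fin k → X.Opens := fun i => V ((Fintype.equivFin s).symm i).1
  let U : X.Opens := Finset.univ.inf O
  have hUc : IsCompact (U : Set X) := by
    have : ∀ t : Finset (Fin k), IsCompact ((t.inf O : X.Opens) : Set X) := fun t => by
      induction t using Finset.induction with
      | empty => simpa using isCompact_univ
      | insert a t _ ih =>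
        rw [Finset.inf_insert, Opens.coe_inf]
        exact QuasiSeparatedSpace.inter_isCompact _ _ (O a).2 (hV _).isCompact (t.inf O).2 ih
    exact this _
  have hUd : Dense (U : Set X) := by
    refine Dense.mono (s₁ := genericPoints (X : Type u)) (fun g hg => ?_) ?_
    · have hU : ∀ t : Finset (Fin k), g ∈ t.inf O := fun t => by
        induction t using Finset.induction with
        | empty => simp
        | insert a t _ ih => rw [Finset.inf_insert]; exact ⟨hGV _ hg, ih⟩
      exact hU _
    · exact dense_iff_closure_eq.2 genericPoints.closure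
  obtain ⟨n, X', π, j, h1, h2, h3, h4, h5⟩ := chow_of_cover f O (fun i => hV _)
    (fun x => by
      obtain ⟨y, hy, hxy⟩ := Set.mem_iUnion₂.mp (hs (Set.mem_univ x))
      exact ⟨Fintype.equivFin s ⟨y, hy⟩, by simpa [O] using hxy⟩)
    U hUc (fun i => Finset.inf_le (Finset.mem_univ i)) hUd
  exact ⟨n, X', π, j, h1, h2, h3, h4, U, hUd, h5⟩

end Groth.Agent.Chow13
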