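import Groth.Agent.Lib.Chow13.Main
import Groth.Agent.Lib.ProjSpace.BaseChange
import Groth.Agent.Lib.LimH13.DescendFP
import Groth.Agent.Lib.LimH13.ClosedStage
import Groth.Agent.Lib.LimH13.AffineSpec
import Groth.Agent.Lib.LimH13.ModelGlue
import Groth.Agent.Lib.LimH13.ArrowModel
import Groth.Agent.S9190

/-!
# Chow's lemma over a quasi-compact quasi-separated base
-/

universe u

open CategoryTheory Limits AlgebraicGeometry Opposite TopologicalSpace Groth.Agent.LimH13

set_option backward.isDefEq.respectTransparency false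
set_option backward.isDefEq.respectTransparency.types false
set_option linter.style.haveILetI false

noncomputable section

namespace Groth.Agent.Chow13

/-- A Chow datum can be pulled back along a change of base followed by a closed immersion. -/
theorem chow_baseChange {T S₀ X₀ X X₀' : Scheme.{u}} (g : T ⟶ S₀) (f₀ : X₀ ⟶ S₀) {n : ℕ} (π : X₀' ⟶ X₀)
    (j : X₀' ⟶ CohB1.ProjSpaceOver n S₀) [IsImmersion j]
    (hj : j ≫ CohB1.ProjSpaceOver.toBase n S₀ = π ≫ f₀) [IsProper π] [Surjective π]
    (k : X ⟶ X₀) (f : X ⟶ T) (w : k ≫ f₀ = f ≫ g) [IsClosedImmersion (pullback.lift k f w)] :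
    ∃ (n : ℕ) (X' : Scheme.{u}) (π : X' ⟶ X) (j : X' ⟶ CohB1.ProjSpaceOver n T),
      IsImmersion j ∧ j ≫ CohB1.ProjSpaceOver.toBase n T = π ≫ f ∧ IsProper π ∧ Surjective π := by
  let l := pullback.lift k f w
  let m : pullback (π ≫ f₀) g ⟶ pullback f₀ g :=
    pullback.lift (pullback.fst _ _ ≫ π) (pullback.snd _ _) (by rw [Category.assoc, pullback.condition])
  have hm : IsPullback (pullback.fst (π ≫ f₀) g) m π (pullback.fst f₀ g) := by
    refine IsPullback.of_bot (v₂₁ := pullback.snd f₀ g) (v₂₂ := f₀) (h₃₁ := g) ?_ (pullback.lift_fst _ _ _).symm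
      (IsPullback.of_hasPullback f₀ g)
    rw [pullback.lift_snd]
    exact IsPullback.of_hasPullback (π ≫ f₀) g
  let h₁ : pullback π k ⟶ pullback (π ≫ f₀) g :=
    pullback.lift (pullback.fst π k) (pullback.snd π k ≫ f)
      (by rw [pullback.condition_assoc, w, Category.assoc])
  have hh₁ : IsPullback h₁ (pullback.snd π k) m l := by
    refine IsPullback.of_right ?_ ?_ hm
    · rw [pullback.lift_fst, pullback.lift_fst]
      exact IsPullback.of_hasPullback π k
    · apply pullback.hom_ext <;> simp [h₁, m, l, pullback.condition]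
  haveI : IsClosedImmersion h₁ := MorphismProperty.of_isPullback hh₁.flip inferInstance
  let pb := ProjSpace.isPullback_overMap n g
  let m₂ := pb.lift (pullback.fst (π ≫ f₀) g ≫ j) (pullback.snd (π ≫ f₀) g)
    (by rw [Category.assoc, hj]; exact pullback.condition)
  have hm₂ : IsPullback m₂ (pullback.fst (π ≫ f₀) g) (ProjSpace.overMap n g) j := by
    refine IsPullback.of_right ?_ (pb.lift_fst _ _ _) pb.flip
    rw [pb.lift_snd, hj]
    exact (IsPullback.of_hasPullback (π ≫ f₀) g).flip
  haveI : IsImmersion m₂ := MorphismProperty.of_isPullback hm₂.flip inferInstance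
  refine ⟨n, pullback π k, pullback.snd π k, h₁ ≫ m₂, inferInstance, ?_,
    MorphismProperty.pullback_snd _ _ inferInstance, MorphismProperty.pullback_snd _ _ inferInstance⟩
  rw [Category.assoc, pb.lift_snd]
  exact pullback.lift_snd _ _ _

/-- A separated scheme of finite presentation over a limit of schemes of finite type over `ℤ`
comes from a noetherian one. -/
theorem exists_noetherian_model {I : Type u} [SmallCategory I] [IsCofiltered I] (D : I ⥤ Scheme.{u})
    (c : Cone D) (hc : IsLimit c) [∀ {i j} (a : i ⟶ j), IsAffineHom (D.map a)] [∀ i, CompactSpace (D.obj i)]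
    (hLFT : ∀ i, LimH13.LFTZ (D.obj i))
    {Y : Scheme.{u}} (y : Y ⟶ c.pt) [LocallyOfFinitePresentation y] [CompactSpace Y] [QuasiSeparatedSpace Y]
    [IsSeparated y] :
    ∃ (Xi Yi : Scheme.{u}) (fi : Xi ⟶ Yi) (g₁ : c.pt ⟶ Yi) (k : Y ⟶ Xi), IsNoetherian Xi ∧ IsNoetherian Yi ∧
      IsSeparated fi ∧ LocallyOfFiniteType fi ∧ QuasiCompact fi ∧ IsPullback k y fi g₁ := by
  haveI : ∀ i, QuasiSeparatedSpace (D.obj i) := fun i => (hLFT i).quasiSeparatedSpace
  obtain ⟨i, P, p, q, hp, hPc, hPq, hP⟩ := LimH13.hasModel_of_finitePresentation hc y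
  haveI := hp
  haveI := hPc
  haveI := hPq
  obtain ⟨i', φ, Xi, Yi, fi, gi, pY, pX, hY', hX', hfi⟩ :=
    Groth.Agent.S9190.result D c hc i p (𝟙 (D.obj i)) y (𝟙 c.pt) (c.π.app i) q
      (IsPullback.of_vert_isIso ⟨by simp⟩) hP
  haveI := hfi
  haveI : IsIso gi := hY'.isIso_snd_of_isIso
  let g₁ : c.pt ⟶ Yi := c.π.app i' ≫ inv gi
  have hg₁ : g₁ ≫ pY = c.π.app i := by
    have h := hY'.w
    rw [Category.comp_id] at h
    rw [h]
    simp [g₁]
  have hw : q ≫ p = (y ≫ g₁) ≫ pY := by rw [Category.assoc, hg₁]; exact hP.w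
  let k : Y ⟶ Xi := hX'.lift q (y ≫ g₁) hw
  have hk : IsPullback k y fi g₁ := by
    refine IsPullback.of_right ?_ (hX'.lift_snd _ _ hw) hX'
    rw [hX'.lift_fst, hg₁]
    exact hP
  haveI : LocallyOfFinitePresentation fi := MorphismProperty.of_isPullback hX' hp
  haveI : QuasiCompact p := quasiCompact_of_compactSpace p
  haveI : QuasiCompact fi := MorphismProperty.of_isPullback hX' inferInstance
  haveI : LocallyOfFiniteType (specULiftZIsTerminal.from (D.obj i')) := hLFT i'
  haveI : IsNoetherianRing (ULift.{u} ℤ) := isNoetherianRing_of_ringEquiv ℤ ULift.ringEquiv.symm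
  haveI : IsLocallyNoetherian (D.obj i') :=
    LocallyOfFiniteType.isLocallyNoetherian (specULiftZIsTerminal.from (D.obj i'))
  haveI : IsLocallyNoetherian Yi := LocallyOfFiniteType.isLocallyNoetherian gi
  haveI : CompactSpace Yi := QuasiCompact.compactSpace_of_compactSpace gi
  haveI : IsNoetherian Yi := ⟨⟩
  haveI : IsLocallyNoetherian Xi := LocallyOfFiniteType.isLocallyNoetherian fi
  haveI : CompactSpace Xi := QuasiCompact.compactSpace_of_compactSpace fi
  exact ⟨Xi, Yi, fi, g₁, k, ⟨⟩, inferInstance, hfi, inferInstance, inferInstance, hk⟩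

/-- Chow's lemma over a quasi-compact quasi-separated base. -/
theorem chow {X S : Scheme.{u}} (f : X ⟶ S) [CompactSpace S] [QuasiSeparatedSpace S]
    [IsSeparated f] [LocallyOfFiniteType f] [QuasiCompact f] :
    ∃ (n : ℕ) (X' : Scheme.{u}) (π : X' ⟶ X) (j : X' ⟶ CohB1.ProjSpaceOver n S),
      IsImmersion j ∧ j ≫ CohB1.ProjSpaceOver.toBase n S = π ≫ f ∧ IsProper π ∧ Surjective π := by
  haveI : CompactSpace X := QuasiCompact.compactSpace_of_compactSpace f
  haveI : QuasiSeparatedSpace X := quasiSeparatedSpace_of_quasiSeparated f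
  obtain ⟨Y, y, jX, hfp, hqc, -, hYc, hYq, hjX, hjy, hsep⟩ := LimH13.exists_closed_stage f
  haveI := hfp
  haveI := hYc
  haveI := hYq
  haveI hys : IsSeparated y := hsep inferInstance
  obtain ⟨B, g, hBc, hB, hg⟩ := LimH13.hasZModel S
  haveI := hB.quasiSeparatedSpace
  haveI : IsFiltered (SubAlg.Idx (RelSpec.QCAlg.directImage g)) := isFiltered_of_directed_le_nonempty _
  haveI : ∀ {i j} (a : i ⟶ j), IsAffineHom ((SubAlg.affDiag g).map a) :=
    fun a => SubAlg.isAffineHom_affDiag_map g a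
  haveI : ∀ i, CompactSpace ((SubAlg.affDiag g).obj i) := fun i => SubAlg.compactSpace_affDiag g i
  have hLFT : ∀ j, LimH13.LFTZ ((SubAlg.affDiag g).obj j) := fun j =>
    @LimH13.LFTZ.of_comp _ _ hB j.unop.alg.π (SubAlg.locallyOfFiniteType_π j.unop.ft)
  haveI : LocallyOfFinitePresentation (y : Y ⟶ (SubAlg.affCone g).pt) := hfp
  haveI : IsSeparated (y : Y ⟶ (SubAlg.affCone g).pt) := hys
  obtain ⟨Xi, Yi, fi, g₁, k, hXi, hYi, hfi, hft, hqcf, hk⟩ :=
    exists_noetherian_model (SubAlg.affDiag g) (SubAlg.affCone g) (SubAlg.isLimitAffCone g) hLFT y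
  haveI := hXi
  haveI := hYi
  haveI := hfi
  haveI := hft
  haveI := hqcf
  obtain ⟨n, X', π, j, hj, hjπ, hπ, hπs, -⟩ :=
    chow_finite_components fi TopologicalSpace.NoetherianSpace.finite_irreducibleComponents
  haveI := hj
  haveI := hπ
  haveI := hπs
  have w : (jX ≫ k) ≫ fi = f ≫ g₁ := by rw [Category.assoc, hk.w, ← Category.assoc, hjy]
  haveI : IsClosedImmersion (pullback.lift (jX ≫ k) f w) := by
    have : pullback.lift (jX ≫ k) f w = jX ≫ hk.isoPullback.hom := by
      apply pullback.hom_ext <;> simp [hjy]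
    rw [this]
    infer_instance
  exact chow_baseChange g₁ fi π j hjπ (jX ≫ k) f w

end Groth.Agent.Chow13
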