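import Mathlib.AlgebraicGeometry.Morphisms.ClosedImmersion
import Mathlib.AlgebraicGeometry.Morphisms.Immersion
import Mathlib.AlgebraicGeometry.Morphisms.Proper
import Groth.Agent.Lib.FibreTop.FiniteFactor

/-!
# Scheme-theoretic images of graphs, and Chow's construction
-/

universe u

open CategoryTheory Limits AlgebraicGeometry TopologicalSpace

set_option backward.isDefEq.respectTransparency false
set_option backward.isDefEq.respectTransparency.types false
set_option linter.style.haveILetI false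

noncomputable section

namespace Groth.Agent.Chow13

/-- The scheme-theoretic image commutes with restriction to opens. -/
theorem ker_imageι_restrict {U M : Scheme.{u}} (a : U ⟶ M) [QuasiCompact a] (V : M.Opens) :
    (a.imageι ∣_ V).ker = (a ∣_ V).ker := by
  have key : ∀ {W : Scheme.{u}} (b : W ⟶ M) [QuasiCompact b], b.ker = a.ker → (b ∣_ V).ker = (a ∣_ V).ker := by
    intro W b _ hb
    refine Scheme.IdealSheafData.ext (funext fun W => ?_)
    rw [Scheme.ker_morphismRestrict_ideal, Scheme.ker_morphismRestrict_ideal, hb]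
  exact key a.imageι a.ker.ker_subschemeι

theorem isIso_restrict_self {X : Scheme.{u}} (U : X.Opens) (q : (U : Scheme.{u}) ⟶ X) (e : q = U.ι) :
    IsIso (q ∣_ U) := by
  subst e
  have h : ∀ W : (U : Scheme.{u}).Opens, W = ⊤ → IsIso W.ι := fun W hW => by
    subst hW
    exact inferInstanceAs (IsIso (U : Scheme.{u}).topIso.hom)
  have e : U.ι ∣_ U = (U.ι ⁻¹ᵁ U).ι := by rw [← cancel_mono U.ι, morphismRestrict_ι]
  rw [e]
  exact h _ U.ι_preimage_self

/-- Maps from a scheme-theoretic image agree if they agree on the source. -/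
theorem comp_eq_of_comp_eq {T Z V Y S : Scheme.{u}} (k : Z ⟶ V) (h : T ⟶ V) (hk : k.ker = h.ker)
    (α β : V ⟶ Y) (y : Y ⟶ S) [IsSeparated y] (hS : α ≫ y = β ≫ y) (e : h ≫ α = h ≫ β) :
    k ≫ α = k ≫ β := by
  let δ : V ⟶ pullback y y := pullback.lift α β hS
  let z := pullback.snd (pullback.diagonal y) δ
  haveI : IsClosedImmersion z := MorphismProperty.pullback_snd _ _ inferInstance
  have hz : z ≫ α = z ≫ β := by
    have h1 : pullback.fst (pullback.diagonal y) δ ≫ pullback.diagonal y = z ≫ δ := pullback.condition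
    have h2 := congrArg (· ≫ pullback.fst y y) h1
    have h3 := congrArg (· ≫ pullback.snd y y) h1
    simp only [Category.assoc, δ, pullback.lift_fst, pullback.lift_snd, pullback.diagonal_fst,
      pullback.diagonal_snd, Category.comp_id] at h2 h3
    exact h2.symm.trans h3
  let l : T ⟶ pullback (pullback.diagonal y) δ := pullback.lift (h ≫ α) h
    (by apply pullback.hom_ext <;> simp [δ, e])
  have hl : l ≫ z = h := pullback.lift_snd _ _ _
  have hle : z.ker ≤ k.ker := by
    rw [hk, ← hl]
    exact Scheme.Hom.le_ker_comp l z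
  rw [← IsClosedImmersion.lift_fac z k hle, Category.assoc, Category.assoc, hz]

variable {X S P : Scheme.{u}} {f : X ⟶ S} {p : P ⟶ S} (U : X.Opens) (g : (U : Scheme.{u}) ⟶ P)

/-- The graph of a partial map. -/
def graphU (hg : g ≫ p = U.ι ≫ f) : (U : Scheme.{u}) ⟶ pullback f p :=
  pullback.lift U.ι g hg.symm

variable (hg : g ≫ p = U.ι ≫ f)

/-- Chow's modification: the closure of the graph. -/
abbrev chowScheme : Scheme.{u} := (graphU U g hg).image

/-- The projection to `X`. -/
def chowπ : chowScheme U g hg ⟶ X := (graphU U g hg).imageι ≫ pullback.fst f p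

/-- The projection to `P`. -/
def chowq : chowScheme U g hg ⟶ P := (graphU U g hg).imageι ≫ pullback.snd f p

theorem chowq_comp : chowq U g hg ≫ p = chowπ U g hg ≫ f := by
  simp [chowq, chowπ, pullback.condition]

theorem isProper_chowπ [IsProper p] : IsProper (chowπ U g hg) := by
  haveI : IsProper (pullback.fst f p) := MorphismProperty.pullback_fst _ _ inferInstance
  unfold chowπ
  infer_instance

theorem surjective_chowπ [IsProper p] (hU : Dense (U : Set X)) : Surjective (chowπ U g hg) := by
  haveI := isProper_chowπ U g hg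
  refine ⟨Set.range_eq_univ.1 ?_⟩
  refine Set.eq_univ_of_univ_subset ?_
  rw [← hU.closure_eq]
  refine closure_minimal ?_ (chowπ U g hg).isClosedMap.isClosed_range
  intro x hx
  refine ⟨(graphU U g hg).toImage ⟨x, hx⟩, ?_⟩
  rw [← Scheme.Hom.comp_apply, chowπ, Scheme.Hom.toImage_imageι_assoc]
  simp [graphU]

theorem isIso_chowπ_restrict [IsSeparated p] [QuasiCompact (graphU U g hg)] :
    IsIso (chowπ U g hg ∣_ U) := by
  let a := graphU U g hg
  let V : (pullback f p).Opens := pullback.fst f p ⁻¹ᵁ U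
  haveI h1 : IsIso ((a ∣_ V) ≫ (pullback.fst f p ∣_ U)) := by
    rw [← morphismRestrict_comp a (pullback.fst f p) U]
    exact isIso_restrict_self U _ (pullback.lift_fst _ _ _)
  haveI : IsSeparated (pullback.fst f p ∣_ U) := by
    haveI : IsSeparated (pullback.fst f p) := MorphismProperty.pullback_fst _ _ inferInstance
    exact IsZariskiLocalAtTarget.restrict (P := @IsSeparated) (f := pullback.fst f p) ‹_› U
  haveI : IsClosedImmersion (a ∣_ V) := IsClosedImmersion.of_comp (a ∣_ V) (pullback.fst f p ∣_ U)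
  haveI : IsClosedImmersion (a.imageι ∣_ V) := IsZariskiLocalAtTarget.restrict (P := @IsClosedImmersion) (f := a.imageι) inferInstance V
  have hk := ker_imageι_restrict a V
  haveI := IsClosedImmersion.isIso_lift (a.imageι ∣_ V) (a ∣_ V) hk
  let l := IsClosedImmersion.lift (a.imageι ∣_ V) (a ∣_ V) hk.le
  haveI : IsIso ((a.imageι ∣_ V) ≫ (pullback.fst f p ∣_ U)) := by
    have : l ≫ (a.imageι ∣_ V) ≫ (pullback.fst f p ∣_ U) = (a ∣_ V) ≫ (pullback.fst f p ∣_ U) :=
      IsClosedImmersion.lift_fac_assoc _ _ _ _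
    haveI : IsIso (l ≫ (a.imageι ∣_ V) ≫ (pullback.fst f p ∣_ U)) := by rw [this]; exact h1
    exact IsIso.of_isIso_comp_left l _
  rw [show chowπ U g hg ∣_ U = _ from morphismRestrict_comp a.imageι (pullback.fst f p) U]
  assumption

/-- The key step: the projection to `P` is an immersion. -/
theorem isImmersion_chowq [IsSeparated f] [IsSeparated p] [QuasiCompact (graphU U g hg)] {ι : Type*}
    (O : ι → X.Opens) (hO : ∀ x, ∃ i, x ∈ O i) (hUO : ∀ i, U ≤ O i) (P' : ι → Scheme.{u})
    (p' : ∀ i, P' i ⟶ S) [∀ i, IsSeparated (p' i)] (pr : ∀ i, P ⟶ P' i) (hpr : ∀ i, pr i ≫ p' i = p)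
    (j : ∀ i, (O i : Scheme.{u}) ⟶ P' i) [∀ i, IsImmersion (j i)] (hj : ∀ i, j i ≫ p' i = (O i).ι ≫ f)
    (hgj : ∀ i, g ≫ pr i = X.homOfLE (hUO i) ≫ j i) : IsImmersion (chowq U g hg) := by
  let a := graphU U g hg
  let W : ι → P.Opens := fun i => pr i ⁻¹ᵁ (j i).coborderRange
  refine FibreTop.isImmersion_of_restrict (chowq U g hg) W (fun x => ?_) fun i => ?_
  · obtain ⟨i, hi⟩ := hO (chowπ U g hg x)
    refine ⟨i, ?_⟩
    let V : (pullback f p).Opens := pullback.fst f p ⁻¹ᵁ O i
    let α : (V : Scheme.{u}) ⟶ P' i := (pullback.fst f p ∣_ O i) ≫ j i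
    let β : (V : Scheme.{u}) ⟶ P' i := V.ι ≫ pullback.snd f p ≫ pr i
    have hS : α ≫ p' i = β ≫ p' i := by
      simp only [α, β, Category.assoc, hj, hpr, morphismRestrict_ι_assoc]
      rw [pullback.condition]
    have e : (a ∣_ V) ≫ α = (a ∣_ V) ≫ β := by
      have h1 : (a ⁻¹ᵁ V).ι ≫ g ≫ pr i = (a ⁻¹ᵁ V).ι ≫ X.homOfLE (hUO i) ≫ j i := by rw [hgj]
      have h2 : (a ∣_ V) ≫ β = (a ⁻¹ᵁ V).ι ≫ g ≫ pr i := by
        simp [β, a, graphU]
      rw [h2, h1]
      simp only [α, ← Category.assoc]
      congr 1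
      rw [← cancel_mono (O i).ι]
      simp only [Category.assoc, morphismRestrict_ι, Scheme.homOfLE_ι]
      exact (morphismRestrict_ι_assoc a V _).trans (congrArg _ (pullback.lift_fst _ _ _))
    have hVeq := comp_eq_of_comp_eq (a.imageι ∣_ V) (a ∣_ V) (ker_imageι_restrict a V) α β (p' i) hS e
    have hxV : x ∈ a.imageι ⁻¹ᵁ V := hi
    have h3 := congrArg (fun φ => φ ⟨x, hxV⟩) hVeq
    change pr i (chowq U g hg x) ∈ (j i).coborderRange
    have h4 : β ((a.imageι ∣_ V) ⟨x, hxV⟩) = pr i (chowq U g hg x) := by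
      simp only [β, ← Scheme.Hom.comp_apply, morphismRestrict_ι_assoc]
      rfl
    rw [← h4, ← Scheme.Hom.comp_apply, ← hVeq, ← Category.assoc, Scheme.Hom.comp_apply]
    exact subset_coborder ⟨_, rfl⟩
  · let V : (pullback f p).Opens := pullback.snd f p ⁻¹ᵁ W i
    let Z := pullback (j i).liftCoborder (pr i ∣_ (j i).coborderRange)
    have hzw : (pullback.fst (j i).liftCoborder (pr i ∣_ (j i).coborderRange) ≫ (O i).ι) ≫ f =
        (pullback.snd _ _ ≫ (W i).ι) ≫ p := by
      have e : (O i).ι ≫ f = (j i).liftCoborder ≫ (j i).coborderRange.ι ≫ p' i := by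
        rw [← Category.assoc, Scheme.Hom.liftCoborder_ι, hj]
      rw [Category.assoc, e, pullback.condition_assoc, morphismRestrict_ι_assoc, hpr, Category.assoc]
    let z₀ : Z ⟶ pullback f p := pullback.lift (pullback.fst _ _ ≫ (O i).ι) (pullback.snd _ _ ≫ (W i).ι) hzw
    have hz₀ : ∀ w, z₀ w ∈ V := fun w => by
      change pullback.snd f p (z₀ w) ∈ W i
      rw [← Scheme.Hom.comp_apply, pullback.lift_snd, Scheme.Hom.comp_apply]
      exact ((pullback.snd (j i).liftCoborder (pr i ∣_ (j i).coborderRange)) w).2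
    let z : Z ⟶ V := IsOpenImmersion.lift V.ι z₀ (by
      rintro _ ⟨w, rfl⟩
      simpa using hz₀ w)
    have hz : z ≫ V.ι = z₀ := IsOpenImmersion.lift_fac _ _ _
    have hzsnd : z ≫ (pullback.snd f p ∣_ W i) = pullback.snd _ _ := by
      rw [← cancel_mono (W i).ι, Category.assoc, morphismRestrict_ι, reassoc_of% hz, pullback.lift_snd]
    haveI : IsSeparated (pullback.snd f p ∣_ W i) := by
      haveI : IsSeparated (pullback.snd f p) := MorphismProperty.pullback_snd _ _ inferInstance
      exact IsZariskiLocalAtTarget.restrict (P := @IsSeparated) (f := pullback.snd f p) ‹_› (W i)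
    haveI : IsClosedImmersion (z ≫ (pullback.snd f p ∣_ W i)) := by
      rw [hzsnd]
      exact MorphismProperty.pullback_snd _ _ inferInstance
    haveI : IsClosedImmersion z := IsClosedImmersion.of_comp z (pullback.snd f p ∣_ W i)
    have hag : (a ∣_ V) ≫ V.ι ≫ pullback.snd f p = (a ⁻¹ᵁ V).ι ≫ g := by
      rw [morphismRestrict_ι_assoc]
      exact congrArg _ (pullback.lift_snd _ _ _)
    let l₁ : (a ⁻¹ᵁ V : Scheme.{u}) ⟶ Z := pullback.lift ((a ⁻¹ᵁ V).ι ≫ X.homOfLE (hUO i))
      ((a ∣_ V) ≫ (pullback.snd f p ∣_ W i)) (by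
        rw [← cancel_mono (j i).coborderRange.ι]
        simp only [Category.assoc, Scheme.Hom.liftCoborder_ι, morphismRestrict_ι]
        rw [← hgj]
        simp only [W]
        rw [morphismRestrict_ι_assoc, reassoc_of% hag])
    have hl₁ : l₁ ≫ z = a ∣_ V := by
      rw [← cancel_mono V.ι, Category.assoc, hz]
      apply pullback.hom_ext
      · simp [z₀, l₁, a, graphU]
      · simp only [Category.assoc, z₀, l₁, pullback.lift_snd, pullback.lift_snd_assoc, morphismRestrict_ι]
        exact morphismRestrict_ι_assoc a V _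
    have hk : z.ker ≤ (a.imageι ∣_ V).ker := by
      rw [ker_imageι_restrict a V, ← hl₁]
      exact Scheme.Hom.le_ker_comp l₁ z
    haveI : IsClosedImmersion (a.imageι ∣_ V) := IsZariskiLocalAtTarget.restrict (P := @IsClosedImmersion) (f := a.imageι) inferInstance V
    let l := IsClosedImmersion.lift z (a.imageι ∣_ V) hk
    haveI : IsClosedImmersion (l ≫ z) := by
      rw [IsClosedImmersion.lift_fac]
      infer_instance
    haveI : IsClosedImmersion l := IsClosedImmersion.of_comp l z
    have : IsClosedImmersion (chowq U g hg ∣_ W i) := by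
      rw [show chowq U g hg ∣_ W i = _ from morphismRestrict_comp a.imageι (pullback.snd f p) (W i),
        ← IsClosedImmersion.lift_fac z (a.imageι ∣_ V) hk, Category.assoc, hzsnd]
      haveI : IsClosedImmersion (pullback.snd (j i).liftCoborder (pr i ∣_ (j i).coborderRange)) :=
        MorphismProperty.pullback_snd _ _ inferInstance
      exact inferInstanceAs (IsClosedImmersion (l ≫ _))
    infer_instance

end Groth.Agent.Chow13
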